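import Groth.Agent.Lib.HodgeProper12.Basic
import Groth.Agent.S8859
import Groth.Agent.S2348
import Groth.Agent.Lib.BlowUpProper.Basic
import Groth.Agent.Lib.BlowPt28.Push
import Groth.Agent.Lib.Chow.Main
import Groth.Agent.Lib.Chow.Projective
import Groth.Agent.Lib.ConstFib9.Basic
import Groth.Agent.Lib.HypSq28.Divisors
import Groth.Agent.Lib.ArSurf29.DesingEngine

/-!
# Projective models of a proper surface adapted to a closed subset
-/

universe u

set_option autoImplicit false
set_option linter.all false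
set_option backward.isDefEq.respectTransparency false
set_option maxHeartbeats 1000000

open CategoryTheory CategoryTheory.Limits AlgebraicGeometry TopologicalSpace

noncomputable section

namespace GrothLib.HodgeProper12

theorem genericPoint_eq_of_surjective {A B : Scheme.{u}} [IrreducibleSpace A] [IrreducibleSpace B] (f : A ⟶ B)
    (hf : Function.Surjective f) : f (genericPoint A) = genericPoint B := by
  obtain ⟨a, ha⟩ := hf (genericPoint B)
  have h1 : f (genericPoint A) ⤳ genericPoint B :=
    ha ▸ ((genericPoint_spec A).specializes trivial).map f.continuous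
  exact (h1.antisymm ((genericPoint_spec B).specializes trivial)).eq

variable (k : Type u) [Field k] {X : Scheme.{u}} [X.Over (Spec (CommRingCat.of k))]
  [IsProper (X ↘ Spec (CommRingCat.of k))] [IrreducibleSpace X]

/-- A projective integral surface over `X` on which the preimage of `C` is an effective divisor. -/
theorem exists_model (hdim : topologicalKrullDim X = 2) {C : Set X} (hC : IsClosed C) (hCne : genericPoint X ∉ C) :
    ∃ (Y : Scheme.{u}) (g : Y ⟶ X) (_ : IsIntegral Y) (E : Y.IdealSheafData),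
      IsProper (g ≫ X ↘ Spec (CommRingCat.of k)) ∧ topologicalKrullDim Y = 2 ∧ Function.Surjective g ∧
      g (genericPoint Y) = genericPoint X ∧ (∃ H : Y.Modules, CohB1.IsAmple H) ∧
      _root_.BlowUp.IsEffCartierIdeal E ∧ (E.support : Set Y) = g ⁻¹' C := by
  haveI := Euler.isNoetherian_of_proper (X := X) k
  -- the reduced scheme
  let I₀ : X.IdealSheafData := Scheme.IdealSheafData.vanishingIdeal (⊤ : Closeds X)
  let X₀ := I₀.subscheme
  let i₀ := I₀.subschemeι
  have hr₀ : Set.range i₀ = Set.univ := by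
    rw [RedSub.range_subschemeι_vanishingIdeal]; rfl
  have hs₀ : Function.Surjective i₀ := Set.range_eq_univ.1 hr₀
  haveI : IsIntegral X₀ := Euler.isIntegral_vanishingIdeal _ (IrreducibleSpace.isIrreducible_univ X)
  letI : X₀.Over (Spec (CommRingCat.of k)) := ⟨i₀ ≫ X ↘ Spec (CommRingCat.of k)⟩
  haveI : IsProper (X₀ ↘ Spec (CommRingCat.of k)) := inferInstanceAs (IsProper (i₀ ≫ X ↘ Spec (CommRingCat.of k)))
  haveI := Euler.isNoetherian_of_proper (X := X₀) k
  have hd₀ : topologicalKrullDim X₀ = 2 := by
    rw [i₀.isEmbedding.toHomeomorph.isHomeomorph.topologicalKrullDim_eq, hr₀,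
      (Homeomorph.Set.univ X).isHomeomorph.topologicalKrullDim_eq]
    exact hdim
  -- the blow-up of the preimage of `C`
  let J : X₀.IdealSheafData := Scheme.IdealSheafData.vanishingIdeal ⟨i₀ ⁻¹' C, hC.preimage i₀.continuous⟩
  have hJs : (J.support : Set X₀) = i₀ ⁻¹' C := Scheme.IdealSheafData.coe_support_vanishingIdeal _
  have hη₀ : genericPoint X₀ ∉ (J.support : Set X₀) := by
    rw [hJs, Set.mem_preimage, genericPoint_eq_of_surjective i₀ hs₀]; exact hCne
  have hJ : J ≠ ⊥ := fun h => hη₀ (by rw [h, Scheme.IdealSheafData.support_bot]; trivial)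
  obtain ⟨X₁, b, hb⟩ := Groth.Agent.S8859.result X₀ J
  haveI : IsProper b := BlowUpProper.isProper_of_isBlowUp hb
  obtain ⟨hX₁, hbη, -⟩ := Groth.Agent.S2348.result J hJ b hb
  haveI := hX₁
  have hbs : Function.Surjective b := by
    rw [← Set.range_eq_univ]
    refine Set.eq_univ_of_univ_subset ?_
    rw [← (genericPoint_spec X₀).def]
    exact b.isClosedMap.isClosed_range.closure_subset_iff.2 (Set.singleton_subset_iff.2 ⟨_, hbη⟩)
  have hd₁ : topologicalKrullDim X₁ = 2 :=
    ArSurf29.dim_eq_two_of_birational b J.support.compl ⟨_, hη₀⟩ (BlowUp.isIso_off_center hb) hd₀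
  -- Chow's lemma
  let f₁ : X₁ ⟶ Spec (CommRingCat.of k) := b ≫ X₀ ↘ Spec (CommRingCat.of k)
  haveI : IsProper f₁ := inferInstanceAs (IsProper (b ≫ X₀ ↘ Spec (CommRingCat.of k)))
  letI : X₁.Over (Spec (CommRingCat.of k)) := ⟨f₁⟩
  haveI : IsProper (X₁ ↘ Spec (CommRingCat.of k)) := inferInstanceAs (IsProper f₁)
  haveI : IsNoetherian X₁ := Euler.isNoetherian_of_proper (X := X₁) k
  obtain ⟨M, X₂, π, i, hi, hib, hπ, hπs, hred, hirr, U, hUd, hUiso, -⟩ :=
    Chow.chow_of_finite_components f₁ (NoetherianSpace.finite_irreducibleComponents)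
  haveI := hi
  haveI := hπ
  haveI : IsReduced X₂ := hred inferInstance
  haveI : IrreducibleSpace X₂ := hirr inferInstance
  haveI : IsIntegral X₂ := isIntegral_of_irreducibleSpace_of_isReduced X₂
  have hsurj : Function.Surjective π := hπs.surj
  have hd₂ : topologicalKrullDim X₂ = 2 :=
    ArSurf29.dim_eq_two_of_birational π U hUd.nonempty hUiso hd₁
  haveI : IsProper (π ≫ f₁) := inferInstance
  haveI : IsClosedImmersion i := by
    haveI := Chow.isProper_toBase M (Spec (CommRingCat.of k))
    haveI : IsProper (i ≫ CohB1.ProjSpaceOver.toBase M (Spec (CommRingCat.of k))) := by rw [hib]; infer_instance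
    haveI : IsProper i := IsProper.of_comp i (CohB1.ProjSpaceOver.toBase M (Spec (CommRingCat.of k)))
    exact Chow.isClosedImmersion_of_isImmersion_of_isProper i
  refine ⟨X₂, π ≫ b ≫ i₀, ‹_›, (J.comap b).comap π, ?_, hd₂, ?_, ?_,
    ⟨_, Ample.isAmple_pullback_of_isAffineHom i (ConstFib9.isAmple_twistOver M (Spec (CommRingCat.of k)))⟩, ?_, ?_⟩
  · simp only [Category.assoc]
    exact (inferInstance : IsProper (π ≫ f₁))
  · exact (hs₀.comp hbs).comp hsurj
  · rw [Scheme.Hom.comp_apply, genericPoint_eq_of_surjective π hsurj, Scheme.Hom.comp_apply, hbη,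
      genericPoint_eq_of_surjective i₀ hs₀]
  · refine HypSq28.isEffCartier_comap_dominant π hb.1 ?_
    rw [genericPoint_eq_of_surjective π hsurj, Scheme.IdealSheafData.support_comap]
    intro h
    exact hη₀ (hbη ▸ h)
  · rw [Scheme.IdealSheafData.support_comap, Scheme.IdealSheafData.support_comap]
    show π ⁻¹' (b ⁻¹' (J.support : Set X₀)) = _
    rw [hJs]
    rfl

end GrothLib.HodgeProper12
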