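import Groth.Agent.Lib.HodgeIndex.Deg
import Groth.Agent.Lib.Snapper.PushTop
import Groth.Agent.Lib.CycPush.Curve

/-!
# Intersection numbers under dominant maps of proper surfaces
-/

universe u

set_option autoImplicit false
set_option linter.all false
set_option backward.isDefEq.respectTransparency false
set_option maxHeartbeats 1000000

open CategoryTheory CategoryTheory.Limits AlgebraicGeometry TopologicalSpace

noncomputable section

namespace GrothLib.HodgeProper12

open GrothLib.Cube (Pic clsMod pull)
open GrothLib.Snapper (IsTop DimLT mult phi mixed ptMod polyLT)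
open GrothLib.HodgeIndex (rep isInv_rep cls_rep isect chi deg)

variable (k : Type u) [Field k] {X : Scheme.{u}} [X.Over (Spec (CommRingCat.of k))]
  [IsProper (X ↘ Spec (CommRingCat.of k))]

/-- The pairing as a mixed difference. -/
theorem mixed_pair (a b : Pic X) :
    mixed 2 (phi k 2 (fun i => rep (![a, b] i)) (Coh.structureModule X)) = (isect k a b : ℚ) := by
  rw [HodgeIndex.mixed_two]
  have h : ∀ n : Fin 2 → ℕ, phi k 2 (fun i => rep (![a, b] i)) (Coh.structureModule X) n =
      (chi k (a ^ n 0 * b ^ n 1) : ℚ) :=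
    fun n => (HodgeIndex.phi_eq_chi k ![a, b] n).trans (by rw [Fin.prod_univ_two]; rfl)
  simp [h, isect]
  ring

include k in
theorem mult_pos {d : ℕ} {F : X.Modules} (hF : Coh.IsCoh F) (hd : DimLT (CohB1.support F) (d + 1)) {x : X}
    (hx : IsTop d x) (hxF : x ∈ CohB1.support F) : 0 < mult F x := by
  have h1 := Snapper.length_ne_top k hF hd hx
  have h2 : Module.length (X.presheaf.stalk x) (F.presheaf.stalk x) ≠ 0 := fun h =>
    hxF (Module.length_eq_zero_iff.1 h)
  exact Nat.pos_of_ne_zero fun h => (ENat.toNat_eq_zero.1 h).elim h2 h1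

/-- The top pairing on the reduced structure at a point. -/
def topPair (x : X) (a b : Pic X) : ℚ := mixed 2 (phi k 2 (fun i => rep (![a, b] i)) (ptMod x))

theorem isect_eq_topPair [IrreducibleSpace X] (hd : topologicalKrullDim X = ((2 : ℕ) : WithBot ℕ∞)) (a b : Pic X) :
    (isect k a b : ℚ) = (mult (Coh.structureModule X) (genericPoint X) : ℚ) * topPair k (genericPoint X) a b := by
  haveI := Euler.isNoetherian_of_proper (X := X) k
  have hη : IsTop 2 (genericPoint X) := by
    show topologicalKrullDim (closure ({genericPoint X} : Set X)) = _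
    rw [(genericPoint_spec X).def]
    exact (IsHomeomorph.topologicalKrullDim_eq _ (Homeomorph.Set.univ X).isHomeomorph).trans hd
  have hmem := Snapper.phi_sub_sum_mem k (r := 2) (L := fun i => rep (![a, b] i)) (fun i => isInv_rep _)
    (Kleiman.isCoh_O k) (HodgeIndex.support_structure_dimLT k hd.le)
  have hh := Snapper.mixed_eq_zero hmem
  rw [finsum_eq_single _ (genericPoint X) fun x hne => Snapper.topTerm_eq_zero _ fun hx _ => absurd
      (hx.eq_of_specializes ((genericPoint_spec X).specializes trivial) hη.dimLT) (Ne.symm hne),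
    map_sub, sub_eq_zero, Snapper.topTerm_of _ hη, map_nsmul, nsmul_eq_mul, mixed_pair] at hh
  exact hh

theorem phi_pull {Z : Scheme.{u}} [Z.Over (Spec (CommRingCat.of k))] (g : Z ⟶ X) {r : ℕ} (a : Fin r → Pic X) :
    phi k r (fun i => rep (pull g (a i))) (Coh.structureModule Z) =
      phi k r (fun i => (Scheme.Modules.pullback g).obj (rep (a i))) (Coh.structureModule Z) :=
  funext fun n => Kleiman.phi_eq_of_cls k (L := fun i => rep (pull g (a i)))
    (L' := fun i => (Scheme.Modules.pullback g).obj (rep (a i))) (fun i => isInv_rep _)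
    (fun i => Ample.isInvertible_pullback g (isInv_rep _)) _ (n := n) (n' := n)
    (by simp only [cls_rep, Cube.clsMod_pullback g (isInv_rep _)])

variable {Y : Scheme.{u}} [Y.Over (Spec (CommRingCat.of k))] [IsProper (Y ↘ Spec (CommRingCat.of k))]
  [IsIntegral Y] (g : Y ⟶ X) (hg : g ≫ X ↘ Spec (CommRingCat.of k) = Y ↘ Spec (CommRingCat.of k))

include hg in
theorem isect_pull_eq_topPair (hY : topologicalKrullDim Y = ((2 : ℕ) : WithBot ℕ∞)) (a b : Pic X) :
    (isect k (pull g a) (pull g b) : ℚ) =
      (g.residueDegree (genericPoint Y) : ℚ) * topPair k (g (genericPoint Y)) a b := by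
  have hmem := Snapper.phi_pullback_sub_mem hg hY (r := 2) (L := fun i => rep (![a, b] i)) (fun i => isInv_rep _)
  have hh := Snapper.mixed_eq_zero hmem
  rw [map_sub, sub_eq_zero, map_nsmul, nsmul_eq_mul, ← phi_pull k g] at hh
  rw [← mixed_pair]
  refine Eq.trans ?_ hh
  congr 3
  try (funext i; fin_cases i <;> rfl)

include hg in
theorem deg_pull {y : Y} (hy : IsTop 1 y) (a : Pic X) :
    ∃ D : ℕ, deg k y (pull g a) = (D : ℚ) * deg k (g y) a ∧ (IsTop 1 (g y) → 0 < D) ∧ (¬ IsTop 1 (g y) → D = 0) := by
  haveI := Euler.isNoetherian_of_proper (X := Y) k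
  let I := HodgeIndex.curveIdeal y
  haveI : IsIntegral I.subscheme := Snapper.isIntegral_pt y
  let j := I.subschemeι
  letI : I.subscheme.Over (Spec (CommRingCat.of k)) := ⟨j ≫ Y ↘ Spec (CommRingCat.of k)⟩
  haveI : IsProper (I.subscheme ↘ Spec (CommRingCat.of k)) :=
    inferInstanceAs (IsProper (j ≫ Y ↘ Spec (CommRingCat.of k)))
  have hgen : j (genericPoint I.subscheme) = y :=
    (inseparable_iff_closure_eq.2
      ((QCoh.closure_singleton_eq_range I.subschemeι).trans (Snapper.range_pt y))).eq
  have hdimI : topologicalKrullDim I.subscheme = ((1 : ℕ) : WithBot ℕ∞) := by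
    rw [j.isEmbedding.toHomeomorph.isHomeomorph.topologicalKrullDim_eq, Snapper.range_pt]
    exact hy
  have h1 := Snapper.mixed_eq_zero (Snapper.phi_pullback_sub_mem (k := k) (g := j) (show j ≫ Y ↘ Spec (CommRingCat.of k) = I.subscheme ↘ Spec (CommRingCat.of k) from rfl) hdimI (r := 1)
    (L := fun _ => rep (pull g a)) (fun _ => isInv_rep _))
  have hjg : (j ≫ g) ≫ X ↘ Spec (CommRingCat.of k) = I.subscheme ↘ Spec (CommRingCat.of k) := by
    rw [Category.assoc, hg]; rfl
  have h2 := Snapper.mixed_eq_zero (Snapper.phi_pullback_sub_mem (g := j ≫ g) hjg hdimI (r := 1)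
    (L := fun _ => rep a) (fun _ => isInv_rep _))
  rw [map_sub, sub_eq_zero, map_nsmul, nsmul_eq_mul] at h1 h2
  rw [← phi_pull k j (fun _ : Fin 1 => pull g a)] at h1
  rw [← phi_pull k (j ≫ g) (fun _ : Fin 1 => a), ← Cube.pull_comp] at h2
  have hj1 : j.residueDegree (genericPoint I.subscheme) = 1 :=
    CycPush.residueDegree_eq_one j (AffDom.residueFieldMap_surjective _ _)
  rw [hj1, Nat.cast_one, one_mul, hgen, h2] at h1
  refine ⟨(j ≫ g).residueDegree (genericPoint I.subscheme), ?_, fun h => ?_, fun h => ?_⟩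
  · rw [show (j ≫ g) (genericPoint I.subscheme) = g y by rw [Scheme.Hom.comp_apply, hgen]] at h1
    exact h1.symm
  · have hw : IsTop 1 ((j ≫ g) (genericPoint I.subscheme)) := by
      rw [Scheme.Hom.comp_apply, hgen]; exact h
    have hfin := (Snapper.isTop_iff_finite hjg hdimI).1 hw
    letI := ((j ≫ g).residueFieldMap (genericPoint I.subscheme)).hom.toAlgebra
    haveI : Module.Finite (X.residueField ((j ≫ g) (genericPoint I.subscheme)))
        (I.subscheme.residueField (genericPoint I.subscheme)) := hfin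
    exact Module.finrank_pos
  · exact Snapper.residueDegree_eq_zero hjg hdimI (by rw [Scheme.Hom.comp_apply, hgen]; exact h)

end GrothLib.HodgeProper12
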